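/-
Steps for the uniqueness of odd-degree characters over linear characters of a Sylow `2`-subgroup.

* `inner_ne_zero_comp`: constituents of constituents
* `OddMult.twist`, `OddMult.conj_fun`
* `trivOn_odd`: good characters are trivial on odd abelian normal subgroups
* `quotient_data`: deflation
-/
import Cfsg.Agent.EqLemmas
import Cfsg.Agent.Lib.RealOdd.Basic
import Cfsg.Agent.Lib.CentralChar.Twist
import Cfsg.Agent.Lib.Char.Linear

set_option autoImplicit false
set_option linter.style.haveILetI false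
set_option linter.unusedSectionVars false

namespace Cfsg.Agent.RealOdd

open Cfsg Cfsg.Agent.Char
open scoped ComplexConjugate

variable {G : Type*} [Group G] [Fintype G]

/-- Irreducible, of odd degree, real when `b`. -/
structure Good (b : Bool) (χ : G → ℂ) : Prop where
  irr : IsIrrCharacter G χ
  real : RB b χ
  odd : Odd (charDegree χ)

/-- Outside the real case `P` is its own normaliser. -/
def Hyp (b : Bool) (P : Subgroup G) : Prop := b = false → Subgroup.normalizer (P : Set G) = P

theorem Hyp.true (P : Subgroup G) : Hyp true P := fun h => Bool.noConfusion h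

/-- Constituents of constituents are constituents. -/
theorem inner_ne_zero_comp {A B : Type*} [Group A] [Group B] [Fintype A] [Fintype B] (i : B →* A)
    {π φ : A → ℂ} {θ : B → ℂ} (hπ : IsCharacter A π) (hφ : IsIrrCharacter A φ)
    (hθ : IsCharacter B θ) (h1 : classInner π φ ≠ 0)
    (h2 : classInner (fun b => φ (i b)) θ ≠ 0) : classInner (fun b => π (i b)) θ ≠ 0 := by
  classical
  haveI := Fintype.ofFinite (IrrCharacter A)
  obtain ⟨c, hc, hc'⟩ := IsCharacter.decompose hπ
  choose m hm using fun ψ : IrrCharacter A => IsCharacter.classInner_nat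
    (IsCharacter.comp_hom (IsIrrCharacter.isCharacter ψ.2) i) hθ
  have e : (fun b => π (i b)) = ∑ ψ : IrrCharacter A, (c ψ : ℂ) • (fun b => (ψ : A → ℂ) (i b)) := by
    funext b
    have := congrFun hc (i b)
    simpa using this
  have hsum : classInner (fun b => π (i b)) θ = ((∑ ψ, c ψ * m ψ : ℕ) : ℂ) := by
    rw [e, classInner_sum_left, Nat.cast_sum]
    refine Finset.sum_congr rfl fun ψ _ => ?_
    rw [classInner_smul_left, Nat.cast_mul]
    exact congrArg _ (hm ψ)
  rw [hsum, Nat.cast_ne_zero]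
  intro h0
  have h3 := Finset.sum_eq_zero_iff.mp h0 ⟨φ, hφ⟩ (Finset.mem_univ _)
  rcases mul_eq_zero.mp h3 with h | h
  · exact h1 (by rw [hc' ⟨φ, hφ⟩, h, Nat.cast_zero])
  · exact h2 ((hm ⟨φ, hφ⟩).trans (by rw [h, Nat.cast_zero]))

theorem inner_self_comp {A B : Type*} [Group A] [Group B] [Fintype A] [Fintype B] (i : B →* A)
    (ν : A →* ℂ) : classInner (fun b => ν (i b)) (fun b => ν (i b)) = 1 :=
  classInner_irr_self (isIrrCharacter_of_hom (ν.comp i))

theorem hom_mul_conj {A : Type*} [Group A] [Finite A] (l : A →* ℂ) (x : A) :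
    l x * conj (l x) = 1 := by
  rw [← IsCharacter.apply_inv (isCharacter_of_hom l), ← map_mul, mul_inv_cancel, map_one]

theorem hom_real_sq {A : Type*} [Group A] [Finite A] {l : A →* ℂ} (h : RB true l) (x : A) :
    l x * l x = 1 := by
  have := hom_mul_conj l x
  rwa [h.conj_eq] at this

theorem OddMult.twist {P : Subgroup G} [Fintype P] {χ : G → ℂ} {ν : P → ℂ} (h : OddMult P χ ν)
    (μ : G →* ℂ) : OddMult P (fun g => χ g * μ g) (fun x => ν x * μ x) := by
  obtain ⟨k, hk, hk'⟩ := h
  refine ⟨k, hk, ?_⟩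
  rw [← hk', classInner, classInner]
  refine congrArg _ (Finset.sum_congr rfl fun x _ => ?_)
  rw [map_mul, mul_mul_mul_comm, hom_mul_conj, mul_one]

theorem OddMult.conj_fun {P : Subgroup G} [Fintype P] {χ : G → ℂ} {ν : P → ℂ} (h : OddMult P χ ν) :
    OddMult P (fun g => conj (χ g)) (fun x => conj (ν x)) := by
  obtain ⟨k, hk, hk'⟩ := h
  refine ⟨k, hk, ?_⟩
  rw [← Complex.conj_natCast k, ← hk', classInner, classInner, map_mul, map_inv₀, map_natCast,
    map_sum]
  simp only [map_mul]

/-- Good characters are trivial on odd abelian normal subgroups. -/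
theorem trivOn_odd (b : Bool) (L : Subgroup G) [L.Normal] (hab : ∀ x ∈ L, ∀ y ∈ L, x * y = y * x)
    (hL : Odd (Nat.card L)) (P : Sylow 2 G) (hH : Hyp b (P : Subgroup G)) {χ : G → ℂ}
    (hχ : Good b χ) : ∀ l ∈ L, χ l = χ 1 := by
  classical
  haveI := Fintype.ofFinite L
  haveI := Fact.mk Nat.prime_two
  have hodd : ∀ y ∈ L, ∀ m : ℕ, Nat.Coprime (2 ^ m) (orderOf y) := fun y hy m => by
    refine Nat.Coprime.pow_left _ ?_
    rw [Nat.prime_two.coprime_iff_not_dvd, ← even_iff_two_dvd, Nat.not_even_iff_odd]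
    exact hL.of_dvd_nat (Subgroup.orderOf_dvd_natCard L hy)
  suffices h : classInner (fun n : L => χ n) 1 ≠ 0 from
    fun l hl => CharApp.trivOn_of_constituent_one L hχ.irr h ⟨l, hl⟩
  obtain ⟨d, -, hd⟩ := IsIrrCharacter.exists_degree hχ.irr
  have hdodd := (odd_deg_iff hd).mp hχ.odd
  cases b with
  | true =>
    obtain ⟨φ, hφr, -, k, hk, hk'⟩ := exists_odd_constituent true
      (π := fun n : L => χ n) (IsCharacter.restrict (IsIrrCharacter.isCharacter hχ.irr) L)
      (hχ.real.comp _) (d := d) (by simpa using hd) hdodd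
    obtain ⟨l, hl⟩ := exists_hom_of_degree_one (IsIrrCharacter.isCharacter φ.2)
      (apply_one_eq_one_of_comm (fun x y => Subtype.ext (hab x x.2 y y.2)) φ)
    have h1 : (φ : L → ℂ) = 1 := by
      funext x
      rw [← hl, Pi.one_apply]
      have hsq : l x * l x = 1 := hom_real_sq (hl.symm ▸ hφr) x
      have hcard : l x ^ Nat.card L = 1 := by rw [← map_pow, pow_card_eq_one', map_one]
      obtain ⟨j, hj⟩ := hL
      rw [hj, pow_succ, pow_mul, pow_two, hsq, one_pow, one_mul] at hcard
      exact hcard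
    rw [h1] at hk'
    rw [hk', Nat.cast_ne_zero]
    exact hk.pos.ne'
  | false =>
    set H := (P : Subgroup G) ⊔ L with hHdef
    have hLH : L ≤ H := le_sup_right
    haveI := Fintype.ofFinite H
    obtain ⟨φ, -, hφo, k, hk, hk'⟩ := exists_odd_constituent false
      (π := fun n : H => χ n) (IsCharacter.restrict (IsIrrCharacter.isCharacter hχ.irr) H)
      (fun h => Bool.noConfusion h) (d := d) (by simpa using hd) hdodd
    have h1 : (φ : H → ℂ) 1 = 1 := by
      obtain ⟨n, -, hn, hdvd⟩ := Ito.exists_degree_dvd_index φ.2 (L.subgroupOf H)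
        (fun x hx y hy => Subtype.ext (hab x hx y hy))
      have hidx : (L.subgroupOf H).index ∣ Nat.card (P : Subgroup G) := by
        show L.relIndex H ∣ _
        rw [hHdef, Subgroup.relIndex_sup_right]
        exact Subgroup.relIndex_dvd_card _ _
      obtain ⟨m, hm⟩ := IsPGroup.iff_card.mp P.isPGroup'
      obtain ⟨j, -, hj⟩ := (Nat.dvd_prime_pow Nat.prime_two).mp (hm ▸ hdvd.trans hidx)
      rw [hn, hj]
      rw [degree_eq hn, hj] at hφo
      cases j with
      | zero => simp
      | succ j => exact absurd hφo (Nat.not_odd_iff_even.mpr (by rw [Nat.even_pow]; simp))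
    obtain ⟨l, hl⟩ := exists_hom_of_degree_one (IsIrrCharacter.isCharacter φ.2) h1
    let lam : L →* ℂ := l.comp (Subgroup.inclusion hLH)
    have hne : classInner (fun n : L => χ n) lam ≠ 0 :=
      inner_ne_zero_comp (Subgroup.inclusion hLH) (π := fun n : H => χ n) (φ := l) (θ := lam)
        (IsCharacter.restrict (IsIrrCharacter.isCharacter hχ.irr) H) (isIrrCharacter_of_hom l)
        (isCharacter_of_hom lam) (by rw [hl, hk', Nat.cast_ne_zero]; exact hk.pos.ne')
        (ne_of_eq_of_ne (inner_self_comp (Subgroup.inclusion hLH) l) one_ne_zero)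
    suffices hlam : ∀ a : L, lam a = 1 by
      rwa [show (1 : L → ℂ) = lam from funext fun a => (hlam a).symm]
    intro a
    have hinv : ∀ (x : (P : Subgroup G)) (y : L),
        lam ⟨(x : G) * y * (x : G)⁻¹, Subgroup.Normal.conj_mem ‹_› _ y.2 _⟩ = lam y := by
      intro x y
      let x' : H := ⟨x, Subgroup.mem_sup_left x.2⟩
      show l (x' * Subgroup.inclusion hLH y * x'⁻¹) = l (Subgroup.inclusion hLH y)
      rw [map_mul, map_mul, mul_right_comm, ← map_mul l x', mul_inv_cancel, map_one, one_mul]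
    let α := {y : L // lam y = lam a}
    letI act : MulAction (P : Subgroup G) α :=
      { smul := fun x y => ⟨⟨(x : G) * y.1 * (x : G)⁻¹, Subgroup.Normal.conj_mem ‹_› _ y.1.2 _⟩,
          (hinv x y.1).trans y.2⟩
        one_smul := fun y => Subtype.ext (Subtype.ext (by
          show ((1 : (P : Subgroup G)) : G) * _ * _ = _
          simp))
        mul_smul := fun x x' y => Subtype.ext (Subtype.ext (by
          show ((x * x' : (P : Subgroup G)) : G) * _ * _ = (x : G) * ((x' : G) * _ * _) * _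
          simp [mul_assoc])) }
    have hcard : Nat.card α = Nat.card lam.ker := by
      refine Nat.card_congr (Equiv.subtypeEquiv (Equiv.mulLeft a⁻¹) fun y => ?_)
      rw [MonoidHom.mem_ker, Equiv.coe_mulLeft, map_mul]
      have h0 : lam a⁻¹ * lam a = 1 := by rw [← map_mul, inv_mul_cancel, map_one]
      exact ⟨fun h => by rw [h, h0], fun h =>
        mul_left_cancel₀ (left_ne_zero_of_mul_eq_one h0) (h.trans h0.symm)⟩
    have hnd : ¬ 2 ∣ Nat.card α := by
      rw [hcard, ← even_iff_two_dvd, Nat.not_even_iff_odd]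
      exact hL.of_dvd_nat (Subgroup.card_subgroup_dvd_card _)
    obtain ⟨y, hy⟩ := P.isPGroup'.nonempty_fixed_point_of_prime_not_dvd_card α hnd
    have hyP : (y.1 : G) ∈ (P : Subgroup G) := by
      refine (hH rfl).le (Subgroup.mem_normalizer_iff.mpr fun z => ?_)
      have hcomm : ∀ x ∈ (P : Subgroup G), x * (y.1 : G) = (y.1 : G) * x := fun x hx => by
        have h : x * (y.1 : G) * x⁻¹ = y.1 :=
          congrArg (fun w : α => (w.1 : G)) (hy ⟨x, hx⟩)
        calc x * (y.1 : G) = x * (y.1 : G) * x⁻¹ * x := by simp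
          _ = _ := by rw [h]
      constructor
      · intro hz
        rw [← hcomm z hz, mul_inv_cancel_right]
        exact hz
      · intro hz
        have h2 := hcomm _ hz
        rw [inv_mul_cancel_right] at h2
        rw [← mul_left_cancel h2] at hz
        exact hz
    have hy1 : (y.1 : G) = 1 := by
      obtain ⟨m, hm⟩ := IsPGroup.iff_card.mp P.isPGroup'
      exact orderOf_eq_one_iff.mp (Nat.eq_one_of_dvd_coprimes (hodd _ y.1.2 m)
        (hm ▸ Subgroup.orderOf_dvd_natCard _ hyP) dvd_rfl)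
    have := y.2
    rw [show y.1 = 1 from Subtype.ext hy1, map_one] at this
    exact this.symm

/-- Deflation of a character trivial on `L` together with a linear character of `P` under it. -/
theorem quotient_data (b : Bool) (L : Subgroup G) [L.Normal] [Fintype (G ⧸ L)] (P : Sylow 2 G)
    [Fintype (P : Subgroup G)] (Q : Sylow 2 (G ⧸ L)) [Fintype (Q : Subgroup (G ⧸ L))]
    (f : (P : Subgroup G) →* (Q : Subgroup (G ⧸ L)))
    (hf : Function.Surjective f) (hfv : ∀ x, (f x : G ⧸ L) = QuotientGroup.mk' L x)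
    {χ : G → ℂ} (hχ : Good b χ) (ht : ∀ l ∈ L, χ l = χ 1) :
    ∃ ψ : G ⧸ L → ℂ, Good b ψ ∧ (∀ g : G, χ g = ψ (QuotientGroup.mk' L g)) ∧
      ∀ ν : (P : Subgroup G) →* ℂ, RB b ν → OddMult (P : Subgroup G) χ ν →
        ∃ μ : (Q : Subgroup (G ⧸ L)) →* ℂ, RB b μ ∧ (∀ x, ν x = μ (f x)) ∧
          OddMult (Q : Subgroup (G ⧸ L)) ψ μ := by
  classical
  obtain ⟨ψ, hψ⟩ := CentralChar.exists_deflation L ⟨χ, hχ.irr⟩ ht
  have hψ' : ∀ g : G, χ g = (ψ : G ⧸ L → ℂ) (QuotientGroup.mk' L g) := hψ
  refine ⟨(ψ : G ⧸ L → ℂ), ⟨ψ.2, fun hb x => ?_, ?_⟩, hψ', fun ν hν hm => ?_⟩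
  · obtain ⟨g, rfl⟩ := QuotientGroup.mk'_surjective L x
    rw [← hψ']
    exact hχ.real hb g
  · have := hψ' 1
    rw [map_one] at this
    rw [charDegree, ← this]
    exact hχ.odd
  have hcomp : (fun x : (P : Subgroup G) => χ x) = fun x => (ψ : G ⧸ L → ℂ) (f x) := by
    funext x
    rw [hfv, ← hψ']
  have hker : ∀ z, f z = 1 → ν z = 1 := by
    intro z hz
    have h1 : classInner (fun x : (P : Subgroup G) => χ x) ν =
        classInner (fun x : (P : Subgroup G) => χ x) ν * conj (ν z) := by
      conv_lhs => rw [classInner, ← Equiv.sum_comp (Equiv.mulRight z)]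
      rw [classInner, mul_assoc, Finset.sum_mul]
      refine congrArg _ (Finset.sum_congr rfl fun x _ => ?_)
      rw [Equiv.coe_mulRight, congrFun hcomp (x * z), congrFun hcomp x, map_mul, hz, mul_one,
        map_mul, map_mul, mul_assoc]
    have h2 : conj (ν z) = 1 := mul_left_cancel₀ hm.ne_zero (by rw [mul_one]; exact h1.symm)
    simpa using congrArg conj h2
  let s := Function.surjInv hf
  have hs : ∀ y, f (s y) = y := Function.surjInv_eq hf
  have hwd : ∀ x y, f x = f y → ν x = ν y := fun x y h => by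
    have h1 := hker (y⁻¹ * x) (by rw [map_mul, map_inv, h, inv_mul_cancel])
    calc ν x = ν (y * (y⁻¹ * x)) := by rw [mul_inv_cancel_left]
      _ = ν y := by rw [map_mul, h1, mul_one]
  let μ : (Q : Subgroup (G ⧸ L)) →* ℂ :=
    { toFun := fun y => ν (s y)
      map_one' := hker _ (hs 1)
      map_mul' := fun y z => by
        rw [← map_mul]
        exact hwd _ _ (by rw [map_mul, hs, hs, hs]) }
  have hνμ : ∀ x, ν x = μ (f x) := fun x => hwd _ _ (hs _).symm
  obtain ⟨k, hk, hk'⟩ := hm
  refine ⟨μ, fun hb y => hν hb (s y), hνμ, k, hk, ?_⟩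
  rw [← hk', hcomp, show (ν : ↥(P : Subgroup G) → ℂ) = fun x => μ (f x) from funext hνμ,
    classInner_comp_surjective f hf (fun y => (ψ : G ⧸ L → ℂ) y) μ]

end Cfsg.Agent.RealOdd
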