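/-
Uniqueness of the odd-degree character over a linear character of a Sylow `2`-subgroup.

* `eq_of_oddMult`: two good characters over the same linear character are equal
* `conj_of_oddMult`: two linear characters under the same good character are conjugate under the
  normaliser
-/
import Cfsg.Agent.EqLemmas
import Cfsg.Agent.Lib.RealOdd.Step
import Cfsg.Agent.Lib.Solvable.Basic

set_option autoImplicit false
set_option linter.style.haveILetI false
set_option linter.unusedSectionVars false

universe u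

namespace Cfsg.Agent.RealOdd

open Cfsg Cfsg.Agent.Char
open scoped ComplexConjugate

/-- The two conclusions proved together. -/
def Concl {G : Type u} [Group G] [Fintype G] (b : Bool) (P : Sylow 2 G) [Fintype (P : Subgroup G)]
    (χ : G → ℂ) (ν : ↥(P : Subgroup G) →* ℂ) : Prop :=
  (∀ χ' : G → ℂ, Good b χ' → OddMult (P : Subgroup G) χ' ν → χ' = χ) ∧
    ∀ ν' : ↥(P : Subgroup G) →* ℂ, RB b ν' → OddMult (P : Subgroup G) χ ν' →
      ∃ (g : G) (hg : g ∈ Subgroup.normalizer ((P : Subgroup G) : Set G)),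
        ∀ x, ν' x = ν (nconj (P : Subgroup G) hg x)

/-- The statement for groups of order below `n`. -/
def Below (n : ℕ) : Prop :=
  ∀ {G : Type u} [Group G] [Fintype G] [Group.IsSolvable G] (b : Bool) (P : Sylow 2 G)
    [Fintype (P : Subgroup G)], Nat.card G < n → Hyp b (P : Subgroup G) →
    ∀ (χ : G → ℂ) (ν : ↥(P : Subgroup G) →* ℂ), Good b χ → RB b ν →
      OddMult (P : Subgroup G) χ ν → Concl b P χ ν

variable {G : Type u} [Group G] [Fintype G] [Group.IsSolvable G]

theorem concl_of_quotient (ih : Below.{u} (Nat.card G)) (b : Bool) (L : Subgroup G) [L.Normal]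
    (hL : L ≠ ⊥) (P : Sylow 2 G) [Fintype (P : Subgroup G)] (hH : Hyp b (P : Subgroup G))
    {χ : G → ℂ} {ν : ↥(P : Subgroup G) →* ℂ} (hχ : Good b χ) (hν : RB b ν)
    (hm : OddMult (P : Subgroup G) χ ν) (ht : ∀ l ∈ L, χ l = χ 1)
    (htA : ∀ χ' : G → ℂ, Good b χ' → OddMult (P : Subgroup G) χ' ν → ∀ l ∈ L, χ' l = χ' 1) :
    Concl b P χ ν := by
  classical
  haveI := Fact.mk Nat.prime_two
  haveI := Fintype.ofFinite (G ⧸ L)
  have hlt : Nat.card (G ⧸ L) < Nat.card G := by
    rw [Subgroup.card_eq_card_quotient_mul_card_subgroup L]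
    exact lt_mul_of_one_lt_right Nat.card_pos ((Subgroup.one_lt_card_iff_ne_bot L).mpr hL)
  let Q : Sylow 2 (G ⧸ L) := P.mapSurjective (QuotientGroup.mk'_surjective L)
  haveI := Fintype.ofFinite (Q : Subgroup (G ⧸ L))
  let f : ↥(P : Subgroup G) →* ↥(Q : Subgroup (G ⧸ L)) :=
    (QuotientGroup.mk' L).subgroupMap (P : Subgroup G)
  have hf : Function.Surjective f := MonoidHom.subgroupMap_surjective _ _
  have hfv : ∀ x, (f x : G ⧸ L) = QuotientGroup.mk' L x := fun x => rfl
  have hHQ : Hyp b (Q : Subgroup (G ⧸ L)) := fun hb => by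
    refine le_antisymm (fun x hx => ?_) Subgroup.le_normalizer
    obtain ⟨g, hg, rfl⟩ := exists_normalizer_lift L P hx
    exact Subgroup.mem_map_of_mem _ ((hH hb).le hg)
  obtain ⟨ψ, hψ, hψv, hψν⟩ := quotient_data b L P Q f hf hfv hχ ht
  obtain ⟨μ, hμ, hμv, hμm⟩ := hψν ν hν hm
  obtain ⟨hA, hB⟩ := ih b Q hlt hHQ ψ μ hψ hμ hμm
  refine ⟨fun χ' hχ' hm' => ?_, fun ν' hν' hm' => ?_⟩
  · obtain ⟨ψ', hψ', hψv', hψν'⟩ := quotient_data b L P Q f hf hfv hχ' (htA χ' hχ' hm')
    obtain ⟨μ', -, hμv', hμm'⟩ := hψν' ν hν hm'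
    have e : μ' = μ := MonoidHom.ext fun y => by
      obtain ⟨x, rfl⟩ := hf y
      rw [← hμv', ← hμv]
    subst e
    funext g
    rw [hψv' g, hψv g, hA ψ' hψ' hμm']
  · obtain ⟨μ', hμ', hμv', hμm'⟩ := hψν ν' hν' hm'
    obtain ⟨x, hx, hxe⟩ := hB μ' hμ' hμm'
    obtain ⟨g, hg, hgx⟩ := exists_normalizer_lift L P hx
    refine ⟨g, hg, fun y => ?_⟩
    rw [hμv', hμv, hxe]
    refine congrArg μ (Subtype.ext ?_)
    rw [nconj_apply, hfv, hfv, nconj_apply, map_mul, map_mul, map_inv, hgx]

omit [Group.IsSolvable G] in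
theorem irr_trivial_group [Subsingleton G] {χ : G → ℂ} (hχ : IsIrrCharacter G χ) : χ = 1 := by
  obtain ⟨l, hl⟩ := exists_hom_of_degree_one (IsIrrCharacter.isCharacter hχ)
    (apply_one_eq_one_of_comm (fun a b => Subsingleton.elim _ _) ⟨χ, hχ⟩)
  funext x
  rw [← hl, Subsingleton.elim x 1, map_one, Pi.one_apply]

omit [Group.IsSolvable G] in
theorem conj_indFun (H : Subgroup G) (θ : H → ℂ) (g : G) :
    conj (indFun H θ g) = indFun H (fun x => conj (θ x)) g := by
  classical
  rw [indFun, indFun, map_mul, map_inv₀, map_natCast, map_sum]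
  refine congrArg _ (Finset.sum_congr rfl fun x _ => ?_)
  by_cases h : x⁻¹ * g * x ∈ H
  · rw [extendByZero_mem _ _ h, extendByZero_mem _ _ h]
  · rw [extendByZero_not_mem _ _ h, extendByZero_not_mem _ _ h, map_zero]


/-- The case of a linear character of a normal `2`-subgroup which is not invariant. -/
theorem concl_of_inertia (ih : Below.{u} (Nat.card G)) (b : Bool) (L : Subgroup G) [L.Normal]
    [Fintype L] (P : Sylow 2 G) [Fintype (P : Subgroup G)] (hLP : L ≤ (P : Subgroup G))
    (hH : Hyp b (P : Subgroup G)) {χ : G → ℂ} {ν : ↥(P : Subgroup G) →* ℂ} (hχ : Good b χ)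
    (hν : RB b ν) (hm : OddMult (P : Subgroup G) χ ν)
    (hsq : ∀ l : L, ν.comp (Subgroup.inclusion hLP) l * ν.comp (Subgroup.inclusion hLP) l = 1)
    (hT : CharApp.inertia L (ν.comp (Subgroup.inclusion hLP) : L → ℂ) ≠ ⊤) :
    Concl b P χ ν := by
  classical
  haveI := Fact.mk Nat.prime_two
  set lam : L →* ℂ := ν.comp (Subgroup.inclusion hLP) with hlamdef
  have hlam : IsIrrCharacter L lam := isIrrCharacter_of_hom lam
  have hlamr : ∀ l : L, conj (lam l) = lam l := fun l => by
    rcases mul_self_eq_one_iff.mp (hsq l) with h | h <;> simp [h]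
  set T := CharApp.inertia L (lam : L → ℂ) with hTdef
  have hPinv : ∀ (ν' : ↥(P : Subgroup G) →* ℂ) (y : ↥(P : Subgroup G)) (n : L),
      ν' ⟨(y : G) * n * (y : G)⁻¹, hLP (Subgroup.Normal.conj_mem ‹_› _ n.2 _)⟩ =
        ν' (Subgroup.inclusion hLP n) := fun ν' y n => by
    show ν' (y * Subgroup.inclusion hLP n * y⁻¹) = _
    rw [map_mul, map_mul, mul_right_comm, ← map_mul ν' y, mul_inv_cancel, map_one, one_mul]
  have hPT : (P : Subgroup G) ≤ T := fun y hy => by
    rw [hTdef, CharApp.mem_inertia_iff]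
    exact fun n => hPinv ν ⟨y, hy⟩ n
  have hLT : L ≤ T := hLP.trans hPT
  have hI : CharApp.inertia L (lam : L → ℂ) ≤ T := le_rfl
  haveI := Fintype.ofFinite T
  have hlt : Nat.card T < Nat.card G :=
    lt_of_le_of_ne (Subgroup.card_le_card_group T) fun h => hT (Subgroup.eq_top_of_card_eq T h)
  let S : Sylow 2 T := P.subtype hPT
  haveI := Fintype.ofFinite (S : Subgroup T)
  let e : ↥(S : Subgroup T) ≃* ↥(P : Subgroup G) := Subgroup.subgroupOfEquivOfLe hPT
  have hev : ∀ z, (e z : G) = ((z : T) : G) := fun z => rfl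
  have hnS : ∀ t : T, t ∈ Subgroup.normalizer ((S : Subgroup T) : Set T) →
      (t : G) ∈ Subgroup.normalizer ((P : Subgroup G) : Set G) := fun t ht => by
    rw [Subgroup.mem_normalizer_iff] at ht ⊢
    intro z
    constructor
    · intro hz
      exact (ht ⟨z, hPT hz⟩).mp hz
    · intro hz
      have hzT : z ∈ T := by
        have := T.mul_mem (T.mul_mem (T.inv_mem t.2) (hPT hz)) t.2
        simpa [mul_assoc] using this
      exact (ht ⟨z, hzT⟩).mpr hz
  have hHS : Hyp b (S : Subgroup T) := fun hb =>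
    le_antisymm (fun t ht => (hH hb).le (hnS t ht)) Subgroup.le_normalizer
  -- the correspondent in the inertia group
  have corr : ∀ χ' : G → ℂ, Good b χ' → OddMult (P : Subgroup G) χ' ν →
      ∃ η : T → ℂ, Good b η ∧ indFun T η = χ' ∧ ∀ ν' : ↥(P : Subgroup G) →* ℂ,
        (∀ n : L, ν' (Subgroup.inclusion hLP n) = lam n) → OddMult (P : Subgroup G) χ' ν' →
        OddMult (S : Subgroup T) η (ν'.comp e.toMonoidHom) := by
    intro χ' hχ' hm'
    have hne : classInner (fun n : L => χ' n) lam ≠ 0 :=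
      inner_ne_zero_comp (Subgroup.inclusion hLP)
        (π := fun x : (P : Subgroup G) => χ' x) (φ := ν) (θ := lam)
        (IsCharacter.restrict (IsIrrCharacter.isCharacter hχ'.irr) _) (isIrrCharacter_of_hom ν)
        (isCharacter_of_hom lam) hm'.ne_zero (ne_of_eq_of_ne (inner_self_comp _ ν) one_ne_zero)
    obtain ⟨η, hη, hind⟩ := CharApp.OverStab.exists_under L T hLT hlam hI hχ'.irr hne
    have hdeg : charDegree χ' = T.index * charDegree (η : T → ℂ) := degree_eq (by
      rw [← hind, indFun_one_apply, ← Blocks.charDegree_cast, Nat.cast_mul])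
    refine ⟨η, ⟨η.2, fun hb => ?_, ?_⟩, hind, fun ν' hν' hm'' => ?_⟩
    · let η' : IrrCharacter T := ⟨fun t => conj ((η : T → ℂ) t), IsIrrCharacter.conj η.2⟩
      have h1 : CharApp.OverStab.mult L T hLT (η' : T → ℂ) lam ≠ 0 := by
        have : CharApp.OverStab.mult L T hLT (η' : T → ℂ) lam =
            conj (CharApp.OverStab.mult L T hLT (η : T → ℂ) lam) := by
          simp only [CharApp.OverStab.mult, η', classInner, map_mul, map_inv₀, map_natCast, map_sum,
            hlamr]
        rw [this, map_ne_zero]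
        exact hη
      have h2 : indFun T (η' : T → ℂ) = indFun T (η : T → ℂ) := by
        funext g
        subst hb
        show indFun T (fun t => conj ((η : T → ℂ) t)) g = _
        rw [← conj_indFun, hind, hχ'.real.conj_eq]
      have h3 := CharApp.OverStab.under_unique L T hLT hlam hI h1 hη h2
      exact fun t => Complex.conj_eq_iff_im.mp (congrFun (congrArg Subtype.val h3) t)
    · have := hχ'.odd
      rw [hdeg, Nat.odd_mul] at this
      exact this.2
    · haveI := Fintype.ofFinite (IrrCharacter T)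
      obtain ⟨c, hc, hc'⟩ := IsCharacter.decompose
        (IsCharacter.restrict (IsIrrCharacter.isCharacter hχ'.irr) T)
      have hP : (fun x : (P : Subgroup G) => χ' x) = ∑ φ : IrrCharacter T, (c φ : ℂ) •
          (fun x : (P : Subgroup G) => (φ : T → ℂ) (Subgroup.inclusion hPT x)) := by
        funext x
        have := congrFun hc (Subgroup.inclusion hPT x)
        simpa using this
      have h1 : classInner (fun x : (P : Subgroup G) => χ' x) ν' =
          classInner (fun x : (P : Subgroup G) => (η : T → ℂ) (Subgroup.inclusion hPT x)) ν' := by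
        rw [hP, classInner_sum_left, Finset.sum_eq_single η]
        · rw [classInner_smul_left, ← hc' η, ← classInner_conj_symm,
            ← frobenius_reciprocity T _ (IsIrrCharacter.isClassFunction hχ'.irr), hind,
            classInner_irr_self hχ'.irr, map_one, one_mul]
        · intro φ _ hφ
          rw [classInner_smul_left]
          by_contra h
          obtain ⟨h4, h5⟩ := mul_ne_zero_iff.mp h
          have hmult : CharApp.OverStab.mult L T hLT (φ : T → ℂ) lam ≠ 0 :=
            inner_ne_zero_comp (Subgroup.inclusion hLP)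
              (π := fun x : (P : Subgroup G) => (φ : T → ℂ) (Subgroup.inclusion hPT x)) (φ := ν')
              (θ := lam) (IsCharacter.comp_hom (IsIrrCharacter.isCharacter φ.2) _)
              (isIrrCharacter_of_hom ν') (isCharacter_of_hom lam) h5 (by
                rw [show (lam : L → ℂ) = fun n => ν' (Subgroup.inclusion hLP n) from
                  funext fun n => (hν' n).symm, inner_self_comp]
                exact one_ne_zero)
          have h6 : classInner (indFun T (φ : T → ℂ)) χ' ≠ 0 := by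
            rw [frobenius_reciprocity T _ (IsIrrCharacter.isClassFunction hχ'.irr),
              ← classInner_conj_symm, hc' φ, map_ne_zero]
            exact h4
          exact hφ (CharApp.OverStab.under_unique L T hLT hlam hI hmult hη
            ((CharApp.OverStab.induced_aux L T hLT hlam hI φ.2 hmult hχ'.irr h6).1.trans hind.symm))
        · exact fun h => absurd (Finset.mem_univ η) h
      obtain ⟨k, hk, hk'⟩ := hm''
      refine ⟨k, hk, ?_⟩
      rw [← hk', h1, ← classInner_comp_equiv e]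
      rfl
  obtain ⟨η, hη, hind, hηm⟩ := corr χ hχ hm
  have hνS : RB b (ν.comp e.toMonoidHom) := fun hb z => hν hb (e z)
  obtain ⟨hA, hB⟩ := ih b S hlt hHS η (ν.comp e.toMonoidHom) hη hνS (hηm ν (fun n => rfl) hm)
  refine ⟨fun χ' hχ' hm' => ?_, fun ν' hν' hm' => ?_⟩
  · obtain ⟨η', hη', hind', hηm'⟩ := corr χ' hχ' hm'
    rw [← hind', hA η' hη' (hηm' ν (fun n => rfl) hm'), hind]
  · have hne1 : classInner (fun n : L => χ n) lam ≠ 0 :=
      inner_ne_zero_comp (Subgroup.inclusion hLP)
        (π := fun x : (P : Subgroup G) => χ x) (φ := ν) (θ := lam)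
        (IsCharacter.restrict (IsIrrCharacter.isCharacter hχ.irr) _) (isIrrCharacter_of_hom ν)
        (isCharacter_of_hom lam) hm.ne_zero (ne_of_eq_of_ne (inner_self_comp _ ν) one_ne_zero)
    let lam' : L →* ℂ := ν'.comp (Subgroup.inclusion hLP)
    have hne2 : classInner (fun n : L => χ n) lam' ≠ 0 :=
      inner_ne_zero_comp (Subgroup.inclusion hLP)
        (π := fun x : (P : Subgroup G) => χ x) (φ := ν') (θ := lam')
        (IsCharacter.restrict (IsIrrCharacter.isCharacter hχ.irr) _) (isIrrCharacter_of_hom ν')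
        (isCharacter_of_hom lam') hm'.ne_zero (ne_of_eq_of_ne (inner_self_comp _ ν') one_ne_zero)
    obtain ⟨x, hx⟩ := CliffordChar.constituents_conjugate L hχ.irr hlam (isIrrCharacter_of_hom lam')
      hne1 hne2
    have hxv : ∀ (n : G) (hn : n ∈ L), lam' ⟨n, hn⟩ =
        lam ⟨x⁻¹ * n * x, by simpa using Subgroup.Normal.conj_mem ‹L.Normal› n hn x⁻¹⟩ := by
      intro n hn
      rw [← congrFun hx ⟨n, hn⟩, CliffordChar.conjFun_apply]
    have hxT : ((x⁻¹ • P : Sylow 2 G) : Subgroup G) ≤ T := by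
      intro z hz
      obtain ⟨y, hy, rfl⟩ := hz
      show x⁻¹ * y * x⁻¹⁻¹ ∈ T
      rw [inv_inv, hTdef, CharApp.mem_inertia_iff]
      intro n
      have hn : x * n * x⁻¹ ∈ L := Subgroup.Normal.conj_mem ‹_› _ n.2 x
      have hn' : y * (x * n * x⁻¹) * y⁻¹ ∈ L := Subgroup.Normal.conj_mem ‹_› _ hn y
      have h1 : lam' ⟨_, hn'⟩ = lam' ⟨_, hn⟩ := hPinv ν' ⟨y, hy⟩ ⟨_, hn⟩
      rw [hxv _ hn', hxv _ hn] at h1
      simpa [mul_assoc] using h1
    obtain ⟨⟨t, ht⟩, htP⟩ := MulAction.exists_smul_eq T ((x⁻¹ • P).subtype hxT) S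
    simp_rw [S, Sylow.smul_subtype, Subgroup.smul_def, smul_smul] at htP
    have hg : t * x⁻¹ ∈ Subgroup.normalizer ((P : Subgroup G) : Set G) :=
      Sylow.smul_eq_iff_mem_normalizer.mp (Sylow.subtype_injective htP)
    have hgi := inv_mem hg
    let ν'' : ↥(P : Subgroup G) →* ℂ := ν'.comp (nconj (P : Subgroup G) hgi).toMonoidHom
    have hνL : ∀ n : L, ν'' (Subgroup.inclusion hLP n) = lam n := by
      intro n
      have hn : (t * x⁻¹)⁻¹ * n * (t * x⁻¹)⁻¹⁻¹ ∈ L := Subgroup.Normal.conj_mem ‹_› _ n.2 _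
      show lam' ⟨_, hn⟩ = _
      rw [hxv]
      have htT : t⁻¹ ∈ T := T.inv_mem ht
      rw [hTdef, CharApp.mem_inertia_iff] at htT
      refine Eq.trans (congrArg lam (Subtype.ext ?_)) (htT n)
      simp [mul_assoc]
    obtain ⟨s, hs, hse⟩ := hB (ν''.comp e.toMonoidHom) (fun hb z => hν' hb _) (hηm ν'' hνL
      (hm'.conj_normalizer (IsIrrCharacter.isClassFunction hχ.irr) hgi))
    have hsN := hnS s hs
    refine ⟨(s : G) * (t * x⁻¹), Subgroup.mul_mem _ hsN hg, fun y => ?_⟩
    have h1 := hse (e.symm (nconj (P : Subgroup G) hg y))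
    simp only [MonoidHom.comp_apply, MulEquiv.coe_toMonoidHom, MulEquiv.apply_symm_apply, ν''] at h1
    refine Eq.trans (congrArg ν' (Subtype.ext ?_)) (h1.trans (congrArg ν (Subtype.ext ?_)))
    · simp [nconj_apply, mul_assoc]
    · rw [hev, nconj_apply _ hs, Subgroup.coe_mul, Subgroup.coe_mul, Subgroup.coe_inv, ← hev,
        MulEquiv.apply_symm_apply]
      simp [nconj_apply, mul_assoc]


/-- The case of a normal `2`-subgroup. -/
theorem concl_of_two (ih : Below.{u} (Nat.card G)) (b : Bool) (L : Subgroup G) [L.Normal]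
    (hL : L ≠ ⊥) (hexp : ∀ x ∈ L, x ^ 2 = 1) (P : Sylow 2 G) [Fintype (P : Subgroup G)]
    (hLP : L ≤ (P : Subgroup G)) (hH : Hyp b (P : Subgroup G))
    {χ : G → ℂ} {ν : ↥(P : Subgroup G) →* ℂ} (hχ : Good b χ) (hν : RB b ν)
    (hm : OddMult (P : Subgroup G) χ ν) : Concl b P χ ν := by
  classical
  haveI := Fact.mk Nat.prime_two
  haveI := Fintype.ofFinite L
  let lam : L →* ℂ := ν.comp (Subgroup.inclusion hLP)
  have hlam : IsIrrCharacter L lam := isIrrCharacter_of_hom lam
  have hsq : ∀ l : L, lam l * lam l = 1 := fun l => by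
    rw [← map_mul, show l * l = 1 from Subtype.ext (by
      show (l : G) * (l : G) = 1
      rw [← pow_two]; exact hexp _ l.2), map_one]
  have hlamr : ∀ l : L, conj (lam l) = lam l := fun l => by
    rcases mul_self_eq_one_iff.mp (hsq l) with h | h <;> simp [h]
  have hunder : ∀ (χ' : G → ℂ) (ν' : ↥(P : Subgroup G) →* ℂ), IsIrrCharacter G χ' →
      OddMult (P : Subgroup G) χ' ν' →
      classInner (fun n : L => χ' n) (fun n : L => ν' (Subgroup.inclusion hLP n)) ≠ 0 :=
    fun χ' ν' h h' => inner_ne_zero_comp (Subgroup.inclusion hLP)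
      (π := fun x : (P : Subgroup G) => χ' x) (φ := ν') (θ := fun n => ν' (Subgroup.inclusion hLP n))
      (IsCharacter.restrict (IsIrrCharacter.isCharacter h) _) (isIrrCharacter_of_hom ν')
      (isCharacter_of_hom (ν'.comp _)) h'.ne_zero (ne_of_eq_of_ne (inner_self_comp _ ν') one_ne_zero)
  have hPinv : ∀ (ν' : ↥(P : Subgroup G) →* ℂ) (y : ↥(P : Subgroup G)) (n : L),
      ν' ⟨(y : G) * n * (y : G)⁻¹, hLP (Subgroup.Normal.conj_mem ‹_› _ n.2 _)⟩ =
        ν' (Subgroup.inclusion hLP n) := fun ν' y n => by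
    show ν' (y * Subgroup.inclusion hLP n * y⁻¹) = _
    rw [map_mul, map_mul, mul_right_comm, ← map_mul ν' y, mul_inv_cancel, map_one, one_mul]
  set T := CharApp.inertia L (lam : L → ℂ) with hTdef
  have hPT : (P : Subgroup G) ≤ T := fun y hy => by
    rw [hTdef, CharApp.mem_inertia_iff]
    exact fun n => hPinv ν ⟨y, hy⟩ n
  have hLT : L ≤ T := hLP.trans hPT
  haveI := Fintype.ofFinite T
  by_cases hT : T = ⊤
  · have hinv : ∀ x : G, CliffordChar.conjFun L x (lam : L → ℂ) = lam := fun x => by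
      have : x ∈ T := hT ▸ Subgroup.mem_top x
      rw [hTdef, CharApp.mem_inertia] at this
      exact this
    have hres : ∀ χ', Good b χ' → OddMult (P : Subgroup G) χ' ν →
        ∀ n : L, χ' n = χ' 1 * lam n := fun χ' h h' n => by
      have h1 := CharApp.restrict_invariant L h.irr hlam (hunder χ' ν h.irr h') hinv
      have h2 := congrFun h1 1
      have h3 := congrFun h1 n
      simp only [Pi.smul_apply, smul_eq_mul, map_one, mul_one, OneMemClass.coe_one] at h2 h3
      rw [h3, h2]
    obtain ⟨μ, hμr, hμl⟩ := det_extends b L lam hsq hχ.irr hχ.real hχ.odd (hres χ hχ hm)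
    let μP : ↥(P : Subgroup G) →* ℂ := μ.comp (P : Subgroup G).subtype
    have htw : ∀ χ', Good b χ' → Good b fun g => χ' g * μ g := fun χ' h =>
      ⟨IsIrrCharacter.mul_linear h.irr μ, h.real.mul hμr, by
        simpa [charDegree] using h.odd⟩
    have htriv : ∀ χ' : G → ℂ, IsIrrCharacter G χ' →
        OddMult (P : Subgroup G) χ' ((ν * μP : ↥(P : Subgroup G) →* ℂ)) →
        ∀ l ∈ L, χ' l = χ' 1 := fun χ' h h' l hl => by
      have h1 := hunder χ' (ν * μP) h h'
      rw [show (fun n : L => (ν * μP) (Subgroup.inclusion hLP n)) = 1 from funext fun n => by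
        show lam n * μ (n : G) = 1
        rw [hμl, hsq]] at h1
      exact CharApp.trivOn_of_constituent_one L h h1 ⟨l, hl⟩
    have key := concl_of_quotient ih b L hL P hH (χ := fun g => χ g * μ g) (ν := ν * μP)
      (htw χ hχ) (hν.mul (hμr.comp _)) (hm.twist μ) (htriv _ (htw χ hχ).irr (hm.twist μ)) ?_
    · refine ⟨fun χ' h h' => ?_, fun ν' h h' => ?_⟩
      · have := key.1 _ (htw χ' h) (h'.twist μ)
        funext g
        exact mul_right_cancel₀ (left_ne_zero_of_mul_eq_one (hom_mul_conj μ g)) (congrFun this g)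
      · obtain ⟨g, hg, hge⟩ := key.2 (ν' * μP) (h.mul (hμr.comp _)) (h'.twist μ)
        refine ⟨g, hg, fun x => ?_⟩
        have h1 : ν' x * μ x = ν (nconj _ hg x) * μ (g * x * g⁻¹) := hge x
        rw [map_mul, map_mul, mul_right_comm (μ g), ← map_mul μ g, mul_inv_cancel, map_one,
          one_mul] at h1
        exact mul_right_cancel₀ (left_ne_zero_of_mul_eq_one (hom_mul_conj μ x)) h1
    · exact fun χ' h h' => htriv χ' h.irr h'
  · exact concl_of_inertia ih b L P hLP hH hχ hν hm hsq hT

end Cfsg.Agent.RealOdd
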