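/-
Odd-degree characters of solvable groups against the normaliser of a Sylow `2`-subgroup.

* `concl`: the correspondence
* `card_real_odd_eq_normalizer`
* `all_real_iff`
-/
import Cfsg.Agent.EqLemmas
import Cfsg.Agent.Lib.RealOdd.Main
import Cfsg.Agent.Lib.PGroup.Basic
import Mathlib.GroupTheory.FiniteAbelian.Duality

set_option autoImplicit false
set_option linter.style.haveILetI false
set_option linter.unusedSectionVars false

universe u

namespace Cfsg.Agent.RealOdd

open Cfsg Cfsg.Agent.Char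
open scoped ComplexConjugate

theorem below (n : ℕ) : Below.{u} n := by
  induction n with
  | zero => intro G _ _ _ b P _ h; exact absurd h (Nat.not_lt_zero _)
  | succ n ih =>
    intro G _ _ _ b P _ hlt hH χ ν hχ hν hm
    classical
    haveI := Fact.mk Nat.prime_two
    rcases Nat.lt_succ_iff_lt_or_eq.mp hlt with h | h
    · exact ih b P h hH χ ν hχ hν hm
    subst h
    by_cases hnt : (⊤ : Subgroup G) = ⊥
    · haveI : Subsingleton G := ⟨fun a b => by
        have ha : a ∈ (⊥ : Subgroup G) := hnt ▸ Subgroup.mem_top a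
        have hb : b ∈ (⊥ : Subgroup G) := hnt ▸ Subgroup.mem_top b
        rw [Subgroup.mem_bot] at ha hb
        rw [ha, hb]⟩
      refine ⟨fun χ' h' _ => (irr_trivial_group h'.irr).trans (irr_trivial_group hχ.irr).symm,
        fun ν' _ _ => ⟨1, Subgroup.one_mem _, fun x => ?_⟩⟩
      rw [Subsingleton.elim x 1, map_one, map_one, map_one]
    obtain ⟨p, hp, L, hLn, hL0, -, hLc, hLp, hexp, -⟩ :=
      Solvable.exists_minimal_normal_pGroup (N := (⊤ : Subgroup G)) hnt
    haveI := Fact.mk hp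
    by_cases hp2 : p = 2
    · subst hp2
      exact concl_of_two ih b L hL0 hexp P (hLp.le_sylow_of_normal P) hH hχ hν hm
    · have hodd : Odd (Nat.card L) := by
        obtain ⟨m, hm⟩ := IsPGroup.iff_card.mp hLp
        rw [hm]
        exact (hp.odd_of_ne_two hp2).pow
      have ht : ∀ χ' : G → ℂ, Good b χ' → ∀ l ∈ L, χ' l = χ' 1 := fun χ' h =>
        trivOn_odd b L (fun x hx y hy => congrArg Subtype.val (hLc.is_comm.comm ⟨x, hx⟩ ⟨y, hy⟩))
          hodd P hH h
      exact concl_of_quotient ih b L hL0 P hH hχ hν hm (ht χ hχ) fun χ' h _ => ht χ' h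

variable {G : Type u} [Group G] [Fintype G] [Group.IsSolvable G]

theorem concl (b : Bool) (P : Sylow 2 G) [Fintype (P : Subgroup G)] (hH : Hyp b (P : Subgroup G))
    {χ : G → ℂ} {ν : ↥(P : Subgroup G) →* ℂ} (hχ : Good b χ) (hν : RB b ν)
    (hm : OddMult (P : Subgroup G) χ ν) : Concl b P χ ν :=
  below (Nat.card G + 1) b P (Nat.lt_succ_self _) hH χ ν hχ hν hm

/-- The real linear characters of `P`. -/
abbrev RealLin (P : Sylow 2 G) := {ν : ↥(P : Subgroup G) →* ℂ // RB true ν}

/-- The real irreducible characters of odd degree. -/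
abbrev RealOddIrr (G : Type u) [Group G] :=
  {χ : IrrCharacter G // (∀ g : G, ((χ : G → ℂ) g).im = 0) ∧ Odd (charDegree (χ : G → ℂ))}

theorem good_of {χ : RealOddIrr G} : Good true ((χ : IrrCharacter G) : G → ℂ) :=
  ⟨χ.1.2, fun _ => χ.2.1, χ.2.2⟩

/-- A map from real linear characters onto real odd-degree characters, with its fibres. -/
theorem exists_param (P : Sylow 2 G) :
    ∃ F : RealLin P → RealOddIrr G, Function.Surjective F ∧ ∀ ν ν', F ν = F ν' ↔
      ∃ (g : G) (hg : g ∈ Subgroup.normalizer ((P : Subgroup G) : Set G)),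
        ∀ x, ν'.1 x = ν.1 (nconj (P : Subgroup G) hg x) := by
  classical
  haveI := Fintype.ofFinite (P : Subgroup G)
  choose χ hr ho hm using fun ν : RealLin P => exists_over_linear true P ν.1 ν.2
  refine ⟨fun ν => ⟨χ ν, hr ν rfl, ho ν⟩, fun ψ => ?_, fun ν ν' => ⟨fun h => ?_, ?_⟩⟩
  · obtain ⟨ν, hν, hm'⟩ := exists_linear_under true P (IsIrrCharacter.isCharacter ψ.1.2)
      (fun _ => ψ.2.1) ψ.2.2
    refine ⟨⟨ν, hν⟩, Subtype.ext (Subtype.ext ?_)⟩
    exact (concl true P (Hyp.true _) good_of hν hm').1 _ ⟨(χ ⟨ν, hν⟩).2, hr _, ho _⟩ (hm _)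
  · refine (concl true P (Hyp.true _) ⟨(χ ν).2, hr ν, ho ν⟩ ν.2 (hm ν)).2 ν'.1 ν'.2 ?_
    have e : χ ν = χ ν' := congrArg Subtype.val h
    rw [e]
    exact hm ν'
  · rintro ⟨g, hg, hge⟩
    refine Subtype.ext (Subtype.ext ?_)
    have h1 := (hm ν).conj_normalizer (IsIrrCharacter.isClassFunction (χ ν).2) hg
    rw [show (fun x => ν.1 (nconj (P : Subgroup G) hg x)) = ⇑ν'.1 from
      funext fun x => (hge x).symm] at h1
    exact (concl true P (Hyp.true _) ⟨(χ ν').2, hr ν', ho ν'⟩ ν'.2 (hm ν')).1 _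
      ⟨(χ ν).2, hr ν, ho ν⟩ h1

theorem card_real_odd_eq_normalizer (P : Sylow 2 G) :
    Nat.card (RealOddIrr G) =
      Nat.card (RealOddIrr (Subgroup.normalizer ((P : Subgroup G) : Set G))) := by
  classical
  set N := Subgroup.normalizer ((P : Subgroup G) : Set G) with hN
  haveI := Fintype.ofFinite N
  let S : Sylow 2 N := P.subtype Subgroup.le_normalizer
  let e : ↥(S : Subgroup N) ≃* ↥(P : Subgroup G) :=
    Subgroup.subgroupOfEquivOfLe Subgroup.le_normalizer
  have hev : ∀ z, (e z : G) = ((z : N) : G) := fun z => rfl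
  obtain ⟨F, hF, hFiff⟩ := exists_param P
  obtain ⟨F', hF', hFiff'⟩ := exists_param S
  let t : RealLin P → RealLin S := fun ν => ⟨ν.1.comp e.toMonoidHom, ν.2.comp e⟩
  have ht : Function.Surjective t := fun μ => by
    refine ⟨⟨μ.1.comp e.symm.toMonoidHom, μ.2.comp e.symm⟩, Subtype.ext (MonoidHom.ext fun z => ?_)⟩
    simp [t]
  have hnorm : ∀ g : N, g ∈ Subgroup.normalizer ((S : Subgroup N) : Set N) := fun g => by
    refine Subgroup.mem_normalizer_iff.mpr fun z => ?_
    exact Subgroup.mem_normalizer_iff.mp g.2 (z : G)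
  have key : ∀ ν ν', F ν = F ν' ↔ F' (t ν) = F' (t ν') := by
    intro ν ν'
    rw [hFiff, hFiff']
    constructor
    · rintro ⟨g, hg, h⟩
      refine ⟨⟨g, hg⟩, hnorm _, fun z => (h (e z)).trans (congrArg ν.1 (Subtype.ext ?_))⟩
      simp only [nconj_apply, MulEquiv.coe_toMonoidHom, hev]
      rfl
    · rintro ⟨g, hg, h⟩
      refine ⟨(g : G), g.2, fun x => ?_⟩
      have h1 : ν'.1 (e (e.symm x)) = ν.1 (e (nconj (S : Subgroup N) hg (e.symm x))) := h (e.symm x)
      rw [MulEquiv.apply_symm_apply] at h1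
      refine h1.trans (congrArg ν.1 (Subtype.ext ?_))
      rw [nconj_apply, hev, nconj_apply, Subgroup.coe_mul, Subgroup.coe_mul, Subgroup.coe_inv,
        ← hev, MulEquiv.apply_symm_apply]
  refine Nat.card_congr (Equiv.ofBijective (fun s => F' (t (Function.surjInv hF s))) ⟨?_, ?_⟩)
  · intro s s' h
    rw [← Function.surjInv_eq hF s, ← Function.surjInv_eq hF s']
    exact (key _ _).mpr h
  · intro s'
    obtain ⟨μ, rfl⟩ := hF' s'
    obtain ⟨ν, rfl⟩ := ht μ
    exact ⟨F ν, (key _ _).mp (Function.surjInv_eq hF (F ν))⟩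

/-- All irreducible characters of odd degree are real. -/
def AllReal (G : Type u) [Group G] : Prop :=
  ∀ χ : IrrCharacter G, Odd (charDegree (χ : G → ℂ)) → ∀ g : G, ((χ : G → ℂ) g).im = 0

omit [Group.IsSolvable G] in
theorem AllReal.quotient (h : AllReal G) (L : Subgroup G) [L.Normal] : AllReal (G ⧸ L) := by
  intro ψ hψ x
  obtain ⟨g, rfl⟩ := QuotientGroup.mk'_surjective L x
  exact h ⟨fun g => (ψ : G ⧸ L → ℂ) (QuotientGroup.mk' L g),
    IsIrrCharacter.comp_surjective ψ.2 _ (QuotientGroup.mk'_surjective L)⟩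
    (by simpa [charDegree] using hψ) g

omit [Group.IsSolvable G] in
/-- With all odd-degree characters real, `P` centralises nothing in an odd abelian normal subgroup. -/
theorem eq_one_of_commute (h : AllReal G) (L : Subgroup G) [L.Normal] {p : ℕ} (hp : p.Prime)
    (hp2 : p ≠ 2) (hab : ∀ x ∈ L, ∀ y ∈ L, x * y = y * x) (hLp : IsPGroup p L) (P : Sylow 2 G)
    {c : G} (hc : c ∈ L) (hcP : ∀ y ∈ (P : Subgroup G), y * c = c * y) : c = 1 := by
  classical
  haveI := Fact.mk Nat.prime_two
  haveI := Fact.mk hp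
  by_contra hc1
  haveI := Fintype.ofFinite L
  haveI := Fintype.ofFinite (P : Subgroup G)
  letI : CommGroup L := { (inferInstance : Group L) with
    mul_comm := fun x y => Subtype.ext (hab x x.2 y y.2) }
  have : NeZero (Monoid.exponent L) := ⟨Monoid.exponent_ne_zero_of_finite⟩
  have : NeZero ((Monoid.exponent L : ℕ) : ℂ) := ⟨Nat.cast_ne_zero.2 (NeZero.ne _)⟩
  obtain ⟨φ, hφ⟩ := CommGroup.exists_apply_ne_one_of_hasEnoughRootsOfUnity L ℂ
    (a := (⟨c, hc⟩ : L)) (fun e => hc1 (congrArg Subtype.val e))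
  -- average over `P`
  let cj : ↥(P : Subgroup G) → L → L := fun y n =>
    ⟨(y : G) * n * (y : G)⁻¹, Subgroup.Normal.conj_mem ‹_› _ n.2 _⟩
  let lam : L →* ℂ :=
    { toFun := fun n => ∏ y : ↥(P : Subgroup G), ((φ (cj y n) : ℂˣ) : ℂ)
      map_one' := Finset.prod_eq_one fun y _ => by
        rw [show cj y 1 = 1 from Subtype.ext (by simp [cj]), map_one, Units.val_one]
      map_mul' := fun m n => by
        rw [← Finset.prod_mul_distrib]
        refine Finset.prod_congr rfl fun y _ => ?_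
        rw [show cj y (m * n) = cj y m * cj y n from Subtype.ext (by simp [cj, mul_assoc]), map_mul,
          Units.val_mul] }
  have hinv : ∀ (u : ↥(P : Subgroup G)) (n : L), lam (cj u n) = lam n := fun u n => by
    show ∏ y : ↥(P : Subgroup G), ((φ (cj y (cj u n)) : ℂˣ) : ℂ) = _
    rw [← Equiv.prod_comp (Equiv.mulRight u⁻¹)]
    refine Finset.prod_congr rfl fun y _ => congrArg (fun z => ((φ z : ℂˣ) : ℂ)) (Subtype.ext ?_)
    simp [cj, mul_assoc]
  have hlc : lam ⟨c, hc⟩ ≠ 1 := by
    show ∏ y : ↥(P : Subgroup G), ((φ (cj y ⟨c, hc⟩) : ℂˣ) : ℂ) ≠ 1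
    rw [Finset.prod_congr rfl fun y _ => congrArg (fun z => ((φ z : ℂˣ) : ℂ))
      (show cj y ⟨c, hc⟩ = ⟨c, hc⟩ from Subtype.ext (by
        show (y : G) * c * (y : G)⁻¹ = c
        rw [hcP y y.2, mul_inv_cancel_right])), Finset.prod_const, Finset.card_univ,
      ← Nat.card_eq_fintype_card, ← Units.val_pow_eq_pow_val, ← map_pow]
    intro e
    rw [Units.val_eq_one] at e
    obtain ⟨m, hm⟩ := IsPGroup.iff_card.mp P.isPGroup'
    obtain ⟨k, hk⟩ := IsPGroup.iff_card.mp hLp
    refine hφ ?_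
    have h2 : φ ⟨c, hc⟩ ^ Nat.card L = 1 := by rw [← map_pow, pow_card_eq_one', map_one]
    rw [hm, map_pow] at e
    rw [hk] at h2
    have hco : Nat.Coprime (2 ^ m) (p ^ k) :=
      Nat.Coprime.pow _ _ ((Nat.coprime_primes Nat.prime_two hp).mpr (Ne.symm hp2))
    exact orderOf_eq_one_iff.mp (Nat.eq_one_of_dvd_coprimes hco (orderOf_dvd_of_pow_eq_one e)
      (orderOf_dvd_of_pow_eq_one h2) )
  -- extend to `P ⊔ L`
  set H := (P : Subgroup G) ⊔ L with hH
  haveI := Fintype.ofFinite H
  have hdis : ∀ z ∈ (P : Subgroup G), z ∈ L → z = 1 := fun z hz hzL => by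
    obtain ⟨m, hm⟩ := IsPGroup.iff_card.mp P.isPGroup'
    obtain ⟨k, hk⟩ := IsPGroup.iff_card.mp hLp
    have hco : Nat.Coprime (2 ^ m) (p ^ k) :=
      Nat.Coprime.pow _ _ ((Nat.coprime_primes Nat.prime_two hp).mpr (Ne.symm hp2))
    exact orderOf_eq_one_iff.mp (Nat.eq_one_of_dvd_coprimes hco
      (hm ▸ Subgroup.orderOf_dvd_natCard _ hz) (hk ▸ Subgroup.orderOf_dvd_natCard _ hzL))
  have hdec : ∀ x : H, ∃ n : L, (x : G) * (n : G)⁻¹ ∈ (P : Subgroup G) := fun x => by
    obtain ⟨u, hu, n, hn, hun⟩ := Subgroup.mem_sup_of_normal_right.mp x.2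
    exact ⟨⟨n, hn⟩, by rw [← hun, mul_inv_cancel_right]; exact hu⟩
  choose nn hnn using hdec
  have huniq : ∀ (x : H) (n : L), (x : G) * (n : G)⁻¹ ∈ (P : Subgroup G) → nn x = n := fun x n h => by
    have h1 := Subgroup.mul_mem _ (Subgroup.inv_mem _ h) (hnn x)
    rw [mul_inv_rev, inv_inv, mul_assoc, inv_mul_cancel_left] at h1
    have h2 := hdis _ h1 (L.mul_mem n.2 (L.inv_mem (nn x).2))
    exact Subtype.ext (mul_inv_eq_one.mp h2).symm
  let l : H →* ℂ :=
    { toFun := fun x => lam (nn x)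
      map_one' := by rw [huniq 1 1 (by simp), map_one]
      map_mul' := fun x y => by
        let v : ↥(P : Subgroup G) := ⟨_, hnn y⟩
        rw [huniq (x * y) (cj v⁻¹ (nn x) * nn y) ?_, map_mul, hinv]
        show (x : G) * y * ((((v⁻¹ : ↥(P : Subgroup G)) : G) * (nn x : G) *
          ((v⁻¹ : ↥(P : Subgroup G)) : G)⁻¹) * (nn y : G))⁻¹ ∈ _
        have := Subgroup.mul_mem _ (hnn x) (hnn y)
        simpa [v, mul_assoc] using this }
  have hll : ∀ n : L, l (Subgroup.inclusion le_sup_right n) = lam n := fun n =>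
    congrArg lam (huniq _ n (by simp))
  have hodd : Odd H.index :=
    Nat.not_even_iff_odd.mp fun he => P.not_dvd_index
      ((even_iff_two_dvd.mp he).trans (Subgroup.index_dvd_of_le le_sup_left))
  obtain ⟨χ, -, hχo, k, hk, hk'⟩ := exists_odd_constituent false (π := indFun H (l : H → ℂ))
    (IsCharacter.indFun _ (isCharacter_of_hom l)) (fun h => Bool.noConfusion h) (d := H.index)
    (by rw [indFun_one_apply, map_one, mul_one]) hodd
  rw [frobenius_reciprocity _ _ (Blocks.irr_class χ)] at hk'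
  have h1 : classInner (fun x : H => (χ : G → ℂ) x) l ≠ 0 := by
    rw [CharApp.classInner_comm_of_nat hk', Nat.cast_ne_zero]
    exact hk.pos.ne'
  have h2 : classInner (fun n : L => (χ : G → ℂ) n) lam ≠ 0 := by
    refine inner_ne_zero_comp (Subgroup.inclusion (le_sup_right : L ≤ H))
      (π := fun x : H => (χ : G → ℂ) x) (φ := l) (θ := lam)
      (IsCharacter.restrict (IsIrrCharacter.isCharacter χ.2) H) (isIrrCharacter_of_hom l)
      (isCharacter_of_hom lam) h1 ?_
    rw [show (fun n : L => l (Subgroup.inclusion le_sup_right n)) = ⇑lam from funext hll,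
      classInner_irr_self (isIrrCharacter_of_hom lam)]
    exact one_ne_zero
  have hL : Odd (Nat.card L) := by
    obtain ⟨j, hj⟩ := IsPGroup.iff_card.mp hLp
    rw [hj]
    exact (hp.odd_of_ne_two hp2).pow
  have htriv := trivOn_odd true L hab hL P (Hyp.true _) ⟨χ.2, fun _ => h χ hχo, hχo⟩
  apply h2
  rw [show (fun n : L => (χ : G → ℂ) n) = (χ : G → ℂ) 1 • (1 : L → ℂ) from funext fun n => by
    simp [htriv n n.2], classInner_smul_left,
    classInner_irr_of_ne isIrrCharacter_one (isIrrCharacter_of_hom lam)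
      (fun e => hlc (congrFun e ⟨c, hc⟩).symm), mul_zero]

theorem normalizer_eq_of_allReal : ∀ (n : ℕ) (G : Type u) [Group G] [Fintype G]
    [Group.IsSolvable G] (P : Sylow 2 G), Nat.card G < n → AllReal G →
    Subgroup.normalizer ((P : Subgroup G) : Set G) = (P : Subgroup G) := by
  intro n
  induction n with
  | zero => intro G _ _ _ P h; exact absurd h (Nat.not_lt_zero _)
  | succ n ih =>
    intro G _ _ _ P hlt hR
    classical
    haveI := Fact.mk Nat.prime_two
    refine le_antisymm (fun g hg => ?_) Subgroup.le_normalizer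
    by_cases hnt : (⊤ : Subgroup G) = ⊥
    · have h1 : g ∈ (⊥ : Subgroup G) := hnt ▸ Subgroup.mem_top g
      exact (bot_le : (⊥ : Subgroup G) ≤ (P : Subgroup G)) h1
    obtain ⟨p, hp, L, hLn, hL0, -, hLc, hLp, -, -⟩ :=
      Solvable.exists_minimal_normal_pGroup (N := (⊤ : Subgroup G)) hnt
    haveI := Fintype.ofFinite (G ⧸ L)
    have hlt' : Nat.card (G ⧸ L) < n := by
      refine lt_of_lt_of_le ?_ (Nat.le_of_lt_succ hlt)
      rw [Subgroup.card_eq_card_quotient_mul_card_subgroup L]
      exact lt_mul_of_one_lt_right Nat.card_pos ((Subgroup.one_lt_card_iff_ne_bot L).mpr hL0)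
    have hQ := ih (G ⧸ L) (P.mapSurjective (QuotientGroup.mk'_surjective L)) hlt' (hR.quotient L)
    have hgQ : QuotientGroup.mk' L g ∈ (P : Subgroup G).map (QuotientGroup.mk' L) := by
      refine hQ.le ?_
      have h0 := (Subgroup.le_normalizer_map (H := (P : Subgroup G)) (QuotientGroup.mk' L))
        (Subgroup.mem_map_of_mem _ hg)
      exact h0
    obtain ⟨u, hu, hue⟩ := hgQ
    haveI := Fact.mk hp
    have hl : u⁻¹ * g ∈ L := QuotientGroup.eq.mp hue
    by_cases hp2 : p = 2
    · subst hp2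
      have := Subgroup.mul_mem _ hu (hLp.le_sylow_of_normal P hl)
      simpa using this
    · have hlN := Subgroup.mul_mem _ (Subgroup.inv_mem _ (Subgroup.le_normalizer hu)) hg
      have h1 : u⁻¹ * g = 1 := by
        refine eq_one_of_commute hR L hp hp2
          (fun x hx y hy => congrArg Subtype.val (hLc.is_comm.comm ⟨x, hx⟩ ⟨y, hy⟩)) hLp P hl
          fun y hy => ?_
        set l := u⁻¹ * g
        have h2 : y * l * y⁻¹ * l⁻¹ ∈ (P : Subgroup G) := by
          have := Subgroup.mul_mem _ hy ((Subgroup.mem_normalizer_iff.mp hlN y⁻¹).mp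
            (Subgroup.inv_mem _ hy))
          simpa [mul_assoc] using this
        have h3 : y * l * y⁻¹ * l⁻¹ ∈ L :=
          L.mul_mem (Subgroup.Normal.conj_mem hLn _ hl y) (L.inv_mem hl)
        obtain ⟨m, hm⟩ := IsPGroup.iff_card.mp P.isPGroup'
        obtain ⟨k, hk⟩ := IsPGroup.iff_card.mp hLp
        have hco : Nat.Coprime (2 ^ m) (p ^ k) :=
          Nat.Coprime.pow _ _ ((Nat.coprime_primes Nat.prime_two hp).mpr (Ne.symm hp2))
        have h4 : y * l * y⁻¹ * l⁻¹ = 1 := orderOf_eq_one_iff.mp (Nat.eq_one_of_dvd_coprimes hco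
          (hm ▸ Subgroup.orderOf_dvd_natCard _ h2) (hk ▸ Subgroup.orderOf_dvd_natCard _ h3))
        rw [mul_inv_eq_one, mul_inv_eq_iff_eq_mul] at h4
        exact h4
      rw [inv_mul_eq_one] at h1
      exact h1 ▸ hu

theorem all_real_iff (P : Sylow 2 G) :
    AllReal G ↔ (commutator (P : Subgroup G) = frattini (P : Subgroup G) ∧
      Subgroup.normalizer ((P : Subgroup G) : Set G) = (P : Subgroup G)) := by
  classical
  haveI := Fact.mk Nat.prime_two
  haveI := Fintype.ofFinite (P : Subgroup G)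
  constructor
  · intro hR
    have hN := normalizer_eq_of_allReal (Nat.card G + 1) G P (Nat.lt_succ_self _) hR
    have hH : Hyp false (P : Subgroup G) := fun _ => hN
    have hreal : ∀ (ν : ↥(P : Subgroup G) →* ℂ) x, ν x * ν x = 1 := by
      intro ν x
      obtain ⟨χ, -, ho, hm⟩ := exists_over_linear false P ν (fun h => Bool.noConfusion h)
      let νb : ↥(P : Subgroup G) →* ℂ := (starRingEnd ℂ).toMonoidHom.comp ν
      have hm' : OddMult (P : Subgroup G) (χ : G → ℂ) νb := by
        have := hm.conj_fun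
        rwa [show (fun g => conj ((χ : G → ℂ) g)) = (χ : G → ℂ) from
          funext fun g => Complex.conj_eq_iff_im.mpr (hR χ ho g)] at this
      obtain ⟨g, hg, hge⟩ := (concl false P hH ⟨χ.2, fun h => Bool.noConfusion h, ho⟩
        (fun h => Bool.noConfusion h) hm).2 νb (fun h => Bool.noConfusion h) hm'
      let g' : ↥(P : Subgroup G) := ⟨g, hN.le hg⟩
      have h1 : conj (ν x) = ν x := by
        refine (hge x).trans ?_
        rw [show nconj (P : Subgroup G) hg x = g' * x * g'⁻¹ from Subtype.ext rfl, map_mul, map_mul,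
          mul_right_comm, ← map_mul ν g', mul_inv_cancel, map_one, one_mul]
      have h2 := hom_mul_conj ν x
      rwa [h1] at h2
    refine ⟨le_antisymm (PGroup.commutator_le_frattini P.isPGroup')
      (PGroup.frattini_le_of_quotient_elementary (p := 2) le_rfl fun x => ?_), hN⟩
    by_contra hx
    have hne : Abelianization.of (x ^ 2) ≠ 1 := fun e => hx ((QuotientGroup.eq_one_iff _).mp e)
    have : NeZero (Monoid.exponent (Abelianization ↥(P : Subgroup G))) :=
      ⟨Monoid.exponent_ne_zero_of_finite⟩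
    have : NeZero ((Monoid.exponent (Abelianization ↥(P : Subgroup G)) : ℕ) : ℂ) :=
      ⟨Nat.cast_ne_zero.2 (NeZero.ne _)⟩
    obtain ⟨φ, hφ⟩ := CommGroup.exists_apply_ne_one_of_hasEnoughRootsOfUnity _ ℂ hne
    apply hφ
    refine Units.ext ?_
    have := hreal (((Units.coeHom ℂ).comp φ).comp Abelianization.of) x
    rw [pow_two, map_mul, map_mul, Units.val_mul, Units.val_one]
    exact this
  · rintro ⟨hc, hN⟩ χ ho g
    obtain ⟨ν, -, hm⟩ := exists_linear_under false P (IsIrrCharacter.isCharacter χ.2)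
      (fun h => Bool.noConfusion h) ho
    have hsq : ∀ x, ν x * ν x = 1 := fun x => by
      rw [← map_mul, ← pow_two]
      have h1 : x ^ 2 ∈ commutator ↥(P : Subgroup G) :=
        hc.symm ▸ PGroup.pow_mem_frattini P.isPGroup' x
      exact congrArg Units.val (MonoidHom.mem_ker.mp
        (Abelianization.commutator_subset_ker ν.toHomUnits h1))
    have hνr : (fun x => conj (ν x)) = ν := funext fun x => by
      rcases mul_self_eq_one_iff.mp (hsq x) with h | h <;> simp [h]
    have hm' := hm.conj_fun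
    rw [hνr] at hm'
    have ho' : Odd (charDegree fun g => conj ((χ : G → ℂ) g)) := by
      rwa [degree_eq (n := charDegree (χ : G → ℂ))]
      show conj ((χ : G → ℂ) 1) = _
      rw [← Blocks.charDegree_cast, Complex.conj_natCast]
    have := (concl false P (fun _ => hN) ⟨χ.2, fun h => Bool.noConfusion h, ho⟩
      (fun h => Bool.noConfusion h) hm).1 _
      ⟨IsIrrCharacter.conj χ.2, fun h => Bool.noConfusion h, ho'⟩ hm'
    exact Complex.conj_eq_iff_im.mp (congrFun this g)

end Cfsg.Agent.RealOdd
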